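import Groth.Agent.PBasis12.Field
import Groth.Agent.S4541
import Groth.Agent.FBase64.TensorField
import Mathlib.RingTheory.Smooth.Field
import Mathlib.RingTheory.Kaehler.JacobiZariski
import Mathlib.FieldTheory.Perfect
import Mathlib.RingTheory.AlgebraicIndependent.TranscendenceBasis

/-!
Separable field extensions: geometric reducedness, formal smoothness and differentials.
-/

set_option autoImplicit false

universe u

open TensorProduct KaehlerDifferential

namespace Groth.Agent.Sep12

theorem formallySmooth_of_perfectField (k K : Type u) [Field k] [Field K] [Algebra k K]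
    [PerfectField k] : Algebra.FormallySmooth k K := by
  obtain _ | ⟨p, hp, hpk⟩ := CharP.exists' k
  · have : CharZero K := charZero_of_injective_algebraMap (algebraMap k K).injective
    obtain ⟨s, hs⟩ := exists_isTranscendenceBasis k K
    have : Algebra.IsAlgebraic (IntermediateField.adjoin k (Set.range ((↑) : s → K))) K :=
      hs.isAlgebraic_field
    exact Algebra.FormallySmooth.of_algebraicIndependent_of_isSeparable hs.1
  · have : CharP K p := charP_of_injective_algebraMap (algebraMap k K).injective p
    have : ExpChar k p := .prime hp.out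
    obtain ⟨B, -, -, hB⟩ := Groth.Agent.PBasis12.exists_pBasis_between (p := p) (k := k) (K := K)
      Set.univ ∅ (Set.empty_subset _) Groth.Agent.PBasis12.isPGenerating_univ
      Groth.Agent.PBasis12.isPIndependent_empty
    exact (Groth.Agent.S4541.result p (A := k) (B := K) _ hB).1

variable {k K : Type u} [Field k] [Field K] [Algebra k K]

/-- The prime field of `k`. -/
abbrev prime (k : Type u) [Field k] : Subfield k := ⊥

theorem derivation_prime_eq_zero {M : Type*} [AddCommGroup M] [Module k M]
    (D : Derivation ℤ k M) (a : prime k) : D a = 0 := by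
  let F : Subfield k :=
    { carrier := {x | D x = 0}
      mul_mem' := fun {a b} (ha : D a = 0) (hb : D b = 0) => by
        show D (a * b) = 0
        rw [Derivation.leibniz, ha, hb, smul_zero, smul_zero, add_zero]
      one_mem' := D.map_one_eq_zero
      add_mem' := fun {a b} (ha : D a = 0) (hb : D b = 0) => by
        show D (a + b) = 0
        rw [map_add, ha, hb, add_zero]
      zero_mem' := map_zero D
      neg_mem' := fun {a} (ha : D a = 0) => by
        show D (-a) = 0
        rw [map_neg, ha, neg_zero]
      inv_mem' := fun a (ha : D a = 0) => by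
        show D a⁻¹ = 0
        rw [Derivation.leibniz_inv, ha, smul_zero] }
  exact (bot_le : prime k ≤ F) a.2

theorem pow_surjective_prime (p : ℕ) [Fact p.Prime] [CharP k p] (a : prime k) :
    ∃ b : prime k, (b : k) ^ p = a := by
  have h := (bot_le : prime k ≤ ((frobenius k p).comp (prime k).subtype).fieldRange) a.2
  obtain ⟨b, hb⟩ := h
  exact ⟨b, hb⟩

instance perfectField_prime : PerfectField (prime k) := by
  obtain _ | ⟨p, hp, hpk⟩ := CharP.exists' (prime k)
  · infer_instance
  · have : CharP k p := charP_of_injective_algebraMap (prime k).subtype.injective p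
    have : ExpChar (prime k) p := .prime hp.out
    have : PerfectRing (prime k) p := PerfectRing.ofSurjective (prime k) p fun a => by
      obtain ⟨b, hb⟩ := pow_surjective_prime p a
      exact ⟨b, Subtype.ext (by rw [frobenius_def]; exact hb)⟩
    exact PerfectRing.toPerfectField (prime k) p

theorem subsingleton_kaehler_prime_self : Subsingleton (Ω[prime k⁄ℤ]) := by
  refine subsingleton_of_forall_eq 0 fun w => ?_
  have hw : w ∈ Submodule.span (prime k) (Set.range (D ℤ (prime k))) := by
    rw [span_range_derivation]; trivial
  have hbot : Submodule.span (prime k) (Set.range (D ℤ (prime k))) = ⊥ := by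
    rw [Submodule.span_eq_bot]
    rintro _ ⟨a, rfl⟩
    -- the prime field of the prime field is everything
    let F : Subfield k :=
      { carrier := {x | ∃ h : x ∈ prime k, D ℤ (prime k) ⟨x, h⟩ = 0}
        mul_mem' := fun {a b} ⟨ha, ha'⟩ ⟨hb, hb'⟩ => ⟨mul_mem ha hb, by
          rw [show (⟨a * b, mul_mem ha hb⟩ : prime k) = ⟨a, ha⟩ * ⟨b, hb⟩ from rfl, Derivation.leibniz,
            ha', hb', smul_zero, smul_zero, add_zero]⟩
        one_mem' := ⟨one_mem _, (D ℤ (prime k)).map_one_eq_zero⟩
        add_mem' := fun {a b} ⟨ha, ha'⟩ ⟨hb, hb'⟩ => ⟨add_mem ha hb, by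
          rw [show (⟨a + b, add_mem ha hb⟩ : prime k) = ⟨a, ha⟩ + ⟨b, hb⟩ from rfl, map_add, ha', hb',
            add_zero]⟩
        zero_mem' := ⟨zero_mem _, map_zero (D ℤ (prime k))⟩
        neg_mem' := fun {a} ⟨ha, ha'⟩ => ⟨neg_mem ha, by
          rw [show (⟨-a, neg_mem ha⟩ : prime k) = -⟨a, ha⟩ from rfl, map_neg, ha', neg_zero]⟩
        inv_mem' := fun a ⟨ha, ha'⟩ => ⟨inv_mem ha, by
          rw [show (⟨a⁻¹, inv_mem ha⟩ : prime k) = (⟨a, ha⟩ : prime k)⁻¹ from rfl,
            Derivation.leibniz_inv, ha', smul_zero]⟩ }
    obtain ⟨h, h'⟩ := (bot_le : prime k ≤ F) a.2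
    exact h'
  rw [hbot] at hw
  exact (Submodule.mem_bot _).mp hw

section Base

variable (P : Type u) [Field P] [Algebra P k] [Algebra P K] [IsScalarTower P k K]

theorem map_prime_bijective [Subsingleton (Ω[P⁄ℤ])] :
    Function.Bijective (KaehlerDifferential.map ℤ P k k) := by
  refine ⟨?_, map_surjective_of_surjective ℤ P k k Function.surjective_id⟩
  rw [injective_iff_map_eq_zero]
  intro x hx
  obtain ⟨y, rfl⟩ := (exact_mapBaseChange_map ℤ P k x).mp hx
  induction y with
  | zero => simp
  | tmul a w => rw [Subsingleton.elim w 0, tmul_zero, map_zero]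
  | add a b ha hb => rw [map_add, ha (by rw [← (exact_mapBaseChange_map ℤ P k).apply_apply_eq_zero a]),
      hb (by rw [← (exact_mapBaseChange_map ℤ P k).apply_apply_eq_zero b]), add_zero]

theorem injective_int_iff [Subsingleton (Ω[P⁄ℤ])] :
    Function.Injective (mapBaseChange ℤ k K) ↔ Function.Injective (mapBaseChange P k K) := by
  have h1 := map_prime_bijective (k := k) P
  have h2 := map_prime_bijective (k := K) P
  let e := (LinearEquiv.ofBijective (KaehlerDifferential.map ℤ P k k) h1).baseChange k K
  have comm : ∀ z, KaehlerDifferential.map ℤ P K K (mapBaseChange ℤ k K z) =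
      mapBaseChange P k K (e z) := by
    intro z
    induction z with
    | zero => simp
    | add a b ha hb => simp [ha, hb]
    | tmul c w =>
      have : (KaehlerDifferential.map ℤ P K K).restrictScalars k ∘ₗ KaehlerDifferential.map ℤ ℤ k K =
          KaehlerDifferential.map P P k K ∘ₗ KaehlerDifferential.map ℤ P k k := by
        apply Derivation.liftKaehlerDifferential_unique
        ext a
        simp
      rw [mapBaseChange_tmul, map_smul]
      show c • KaehlerDifferential.map ℤ P K K (KaehlerDifferential.map ℤ ℤ k K w) =
        mapBaseChange P k K (c ⊗ₜ KaehlerDifferential.map ℤ P k k w)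
      rw [mapBaseChange_tmul]
      exact congrArg (c • ·) (LinearMap.congr_fun this w)
  constructor
  · intro h a b hab
    obtain ⟨a, rfl⟩ := e.surjective a
    obtain ⟨b, rfl⟩ := e.surjective b
    rw [← comm, ← comm] at hab
    rw [h (h2.1 hab)]
  · intro h a b hab
    apply e.injective
    apply h
    rw [← comm, ← comm, hab]

theorem formallySmooth_iff_injective_base [PerfectField P] :
    Algebra.FormallySmooth k K ↔ Function.Injective (mapBaseChange P k K) := by
  constructor
  · intro h
    rw [injective_iff_map_eq_zero]
    intro x hx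
    obtain ⟨y, rfl⟩ := (Algebra.H1Cotangent.exact_δ_mapBaseChange P k K x).mp hx
    rw [Subsingleton.elim y 0, map_zero]
  · intro h
    have := formallySmooth_of_perfectField P K
    refine ⟨inferInstance, subsingleton_of_forall_eq 0 fun y => ?_⟩
    have hy : Algebra.H1Cotangent.δ P k K y = 0 := h (by
      rw [(Algebra.H1Cotangent.exact_δ_mapBaseChange P k K).apply_apply_eq_zero, map_zero])
    obtain ⟨z, rfl⟩ := (Algebra.H1Cotangent.exact_map_δ P k K y).mp hy
    rw [Subsingleton.elim z 0, map_zero]

end Base

theorem formallySmooth_iff_injective :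
    Algebra.FormallySmooth k K ↔ Function.Injective (mapBaseChange ℤ k K) := by
  have := subsingleton_kaehler_prime_self (k := k)
  rw [injective_int_iff (prime k), formallySmooth_iff_injective_base (prime k)]

/-- Linearly independent families stay so after raising to the `p`-th power. -/
def PowIndep (p : ℕ) (k K : Type u) [Field k] [Field K] [Algebra k K] : Prop :=
  ∀ (n : ℕ) (s : Fin n → K), LinearIndependent k s → LinearIndependent k (fun i => s i ^ p)

theorem powIndep_of_isGeometricallyReduced (p : ℕ) [Fact p.Prime] [CharP k p]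
    [Algebra.IsGeometricallyReduced k K] : PowIndep p k K := by
  intro n s hs
  rw [Fintype.linearIndependent_iff]
  intro a ha i
  have hred := (Algebra.isGeometricallyReduced_field_iff k K).mp ‹_›
  set E := AlgebraicClosure k
  have hp0 : 0 < p := (Fact.out : p.Prime).pos
  choose r hr using fun j => IsAlgClosed.exists_pow_nat_eq (algebraMap k E (a j)) hp0
  have : CharP (E ⊗[k] K) p := charP_of_injective_algebraMap
    (algebraMap k (E ⊗[k] K)).injective p
  have hz : (∑ j, r j ⊗ₜ[k] s j) ^ p = 0 := by
    rw [sum_pow_char]
    simp only [Algebra.TensorProduct.tmul_pow, hr]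
    have : ∀ j, algebraMap k E (a j) ⊗ₜ[k] (s j ^ p) = (1 : E) ⊗ₜ[k] (a j • s j ^ p) := fun j => by
      rw [Algebra.algebraMap_eq_smul_one, smul_tmul]
    simp only [this, ← tmul_sum, ha, tmul_zero]
  have hz0 : (∑ j, r j ⊗ₜ[k] s j) = 0 := pow_eq_zero_iff hp0.ne' |>.mp hz
  have hli : LinearIndependent E (fun j => (1 : E) ⊗ₜ[k] s j) :=
    Module.Flat.linearIndependent_one_tmul hs
  have := Fintype.linearIndependent_iff.mp hli r (by
    rw [← hz0]
    exact Finset.sum_congr rfl fun j _ => by rw [smul_tmul', smul_eq_mul, mul_one]) i
  have h2 := hr i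
  rw [this, zero_pow hp0.ne', eq_comm, map_eq_zero_iff _ (algebraMap k E).injective] at h2
  exact h2

theorem isGeometricallyReduced_of_powIndep (p : ℕ) [Fact p.Prime] [CharP k p]
    (h : PowIndep p k K) : Algebra.IsGeometricallyReduced k K := by
  rw [Algebra.isGeometricallyReduced_field_iff]
  set E := AlgebraicClosure k
  have hp0 : 0 < p := (Fact.out : p.Prime).pos
  have : CharP (E ⊗[k] K) p := charP_of_injective_algebraMap
    (algebraMap k (E ⊗[k] K)).injective p
  let b := Module.Free.chooseBasis k K
  have key : ∀ x : E ⊗[k] K, x ^ p = 0 → x = 0 := by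
    intro x hx
    obtain ⟨c, rfl⟩ : ∃ c, Finsupp.linearCombination E (fun j => (1 : E) ⊗ₜ[k] b j) c = x :=
      ⟨(Algebra.TensorProduct.basis E b).repr x, by
        conv_rhs => rw [← (Algebra.TensorProduct.basis E b).linearCombination_repr x]
        congr 2
        funext j
        simp⟩
    rw [Finsupp.linearCombination_apply, Finsupp.sum] at hx ⊢
    rw [sum_pow_char] at hx
    let e := c.support.equivFin
    have hli := h _ (fun j => b (e.symm j).1)
      (b.linearIndependent.comp _ (Subtype.val_injective.comp e.symm.injective))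
    have hliE := Module.Flat.linearIndependent_one_tmul (S := E) hli
    have hsum : ∑ j, (c (e.symm j).1) ^ p • ((1 : E) ⊗ₜ[k] (b (e.symm j).1 ^ p)) = 0 := by
      rw [← hx, ← Finset.sum_coe_sort c.support, ← e.symm.sum_comp]
      refine Finset.sum_congr rfl fun j _ => ?_
      rw [smul_tmul', smul_tmul', Algebra.TensorProduct.tmul_pow, smul_eq_mul, smul_eq_mul, mul_one,
        mul_one]
    refine Finset.sum_eq_zero fun j hj => ?_
    have := Fintype.linearIndependent_iff.mp hliE _ hsum (e ⟨j, hj⟩)
    rw [Equiv.symm_apply_apply, pow_eq_zero_iff hp0.ne'] at this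
    rw [this, zero_smul]
  refine (isReduced_iff _).mpr fun x ⟨n, hn⟩ => ?_
  have : ∀ m : ℕ, x ^ p ^ m = 0 → x = 0 := by
    intro m
    induction m with
    | zero => simp
    | succ m ih =>
      intro hm
      exact ih (key _ (by rw [← pow_mul, ← pow_succ]; exact hm))
  exact this n (pow_eq_zero_of_le (Nat.lt_pow_self (Fact.out : p.Prime).one_lt).le hn)

theorem powIndep_iff_injective (p : ℕ) [Fact p.Prime] [CharP k p] :
    PowIndep p k K ↔ Function.Injective (mapBaseChange ℤ k K) := by
  classical
  have hp0 : 0 < p := (Fact.out : p.Prime).pos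
  have : CharP K p := charP_of_injective_algebraMap (algebraMap k K).injective p
  have := subsingleton_kaehler_prime_self (k := k)
  rw [injective_int_iff (prime k)]
  obtain ⟨B, -, -, hB⟩ := Groth.Agent.PBasis12.exists_pBasis_between (p := p) (k := prime k) (K := k)
    Set.univ ∅ (Set.empty_subset _) Groth.Agent.PBasis12.isPGenerating_univ
    Groth.Agent.PBasis12.isPIndependent_empty
  -- elements of the scalar subalgebra are p-th powers
  have hS : ∀ (L : Type u) [Field L] [CharP L p] [Algebra (prime k) L]
      (s : EGA41.pPowerSubalgebra p (prime k) L), ∃ c : L, c ^ p = s := by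
    intro L _ _ _ s
    have hle : EGA41.pPowerSubalgebra p (prime k) L ≤
        { (frobenius L p).range.toSubsemiring with
          algebraMap_mem' := fun a => by
            obtain ⟨b, hb⟩ := pow_surjective_prime (k := k) p a
            exact ⟨algebraMap (prime k) L b, by
              rw [frobenius_def, ← map_pow]; congr 1; exact Subtype.ext hb⟩ } := by
      refine Algebra.adjoin_le ?_
      rintro _ ⟨c, rfl⟩
      exact ⟨c, rfl⟩
    exact hle s.2
  -- `p`-independence in `K` of the image of the `p`-basis
  have hind : EGA41.IsPIndependent p (prime k) (fun b : B => algebraMap k K b) ↔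
      Function.Injective (mapBaseChange (prime k) k K) := by
    rw [Groth.Agent.PBasis12.isPIndependent_iff_D]
    let bb := (Groth.Agent.PBasis12.kaehlerBasis hB).baseChange K
    have hfun : mapBaseChange (prime k) k K ∘ bb =
        fun b : B => D (prime k) K (algebraMap k K b) := by
      funext b
      simp [bb]
    rw [← hfun]
    constructor
    · intro hli
      rw [← LinearMap.ker_eq_bot]
      refine LinearMap.ker_eq_bot'.mpr fun z hz => ?_
      rw [← bb.linearCombination_repr z, Finsupp.apply_linearCombination] at hz
      rw [← bb.linearCombination_repr z, linearIndependent_iff.mp hli _ hz, map_zero]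
    · intro hinj
      exact bb.linearIndependent.map' _ (LinearMap.ker_eq_bot.mpr hinj)
  rw [← hind]
  constructor
  · intro H
    rw [EGA41.IsPIndependent, linearIndependent_iff']
    intro t g hg
    choose c hc using fun e => hS K (g e)
    -- express the coefficients over a linearly independent family
    let V := Submodule.span k (Set.range fun e : t => c e.1)
    have : Module.Finite k V := Module.Finite.span_of_finite k (Set.finite_range _)
    let v := Module.finBasis k V
    let a : Groth.Agent.PBasis12.Red p B → Fin (Module.finrank k V) → k := fun e =>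
      if he : e ∈ t then v.repr ⟨c e, Submodule.subset_span ⟨⟨e, he⟩, rfl⟩⟩ else 0
    have hcv : ∀ e ∈ t, c e = ∑ j, a e j • (v j : K) := by
      intro e he
      have := congrArg Subtype.val (v.sum_repr ⟨c e, Submodule.subset_span ⟨⟨e, he⟩, rfl⟩⟩)
      simp only [a, dif_pos he]
      rw [AddSubmonoidClass.coe_finsetSum] at this
      exact this.symm
    have hliv : LinearIndependent k fun j => (v j : K) ^ p :=
      H _ _ (v.linearIndependent.map' V.subtype V.ker_subtype)
    have hm : ∀ e : Groth.Agent.PBasis12.Red p B,
        EGA41.pMonomial (fun b : B => algebraMap k K b) e.1 =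
          algebraMap k K (EGA41.pMonomial (Subtype.val : B → k) e.1) := fun e =>
      (Groth.Agent.PBasis12.map_pMonomial (algebraMap k K) _ e.1).symm
    have hsum : ∑ j, (∑ e ∈ t, a e j ^ p * EGA41.pMonomial (Subtype.val : B → k) e.1) • (v j : K) ^ p = 0 := by
      rw [← hg]
      simp only [Finset.sum_smul]
      rw [Finset.sum_comm]
      refine Finset.sum_congr rfl fun e he => ?_
      rw [Subalgebra.smul_def, smul_eq_mul, ← hc, hm, hcv e he, sum_pow_char, Finset.sum_mul]
      refine Finset.sum_congr rfl fun j _ => ?_
      rw [Algebra.smul_def, Algebra.smul_def, map_mul, map_pow, mul_pow]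
      ring
    intro e he
    have hcoef := Fintype.linearIndependent_iff.mp hliv _ hsum
    have ha0 : ∀ j, a e j = 0 := by
      intro j
      have := linearIndependent_iff'.mp hB.1 t
        (fun e => ⟨a e j ^ p, Groth.Agent.PBasis12.pow_mem_pPower _⟩) (by
          rw [← hcoef j]
          exact Finset.sum_congr rfl fun e _ => rfl) e he
      exact (pow_eq_zero_iff hp0.ne').mp (congrArg Subtype.val this)
    apply Subtype.ext
    rw [← hc, hcv e he]
    simp [ha0, zero_pow hp0.ne']
  · intro hli n s hs
    rw [Fintype.linearIndependent_iff]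
    intro g hg
    have hgen : ∀ j, ∃ l : Groth.Agent.PBasis12.Red p B →₀ EGA41.pPowerSubalgebra p (prime k) k,
        Finsupp.linearCombination _ (fun e : Groth.Agent.PBasis12.Red p B =>
          EGA41.pMonomial (Subtype.val : B → k) e.1) l = g j := fun j => by
      have := hB.2.ge (Submodule.mem_top (x := g j))
      exact (Finsupp.mem_span_range_iff_exists_finsupp).mp this
    choose l hl using hgen
    choose c hc using fun s' => hS k s'
    let T := Finset.univ.biUnion fun j => (l j).support
    have hgj : ∀ j, g j = ∑ e ∈ T, c (l j e) ^ p * EGA41.pMonomial (Subtype.val : B → k) e.1 := by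
      intro j
      have h1 := hl j
      rw [Finsupp.linearCombination_apply, Finsupp.sum_of_support_subset _
        (Finset.subset_biUnion_of_mem (fun j => (l j).support) (Finset.mem_univ j))
        (fun e a => a • EGA41.pMonomial (Subtype.val : B → k) e.1)
        (fun i _ => zero_smul _ _)] at h1
      refine h1.symm.trans (Finset.sum_congr rfl fun e _ => ?_)
      rw [Subalgebra.smul_def, smul_eq_mul, hc]
    let C : Groth.Agent.PBasis12.Red p B → K := fun e => ∑ j, c (l j e) • s j
    have hsum : ∑ e ∈ T, (⟨C e ^ p, Groth.Agent.PBasis12.pow_mem_pPower _⟩ :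
        EGA41.pPowerSubalgebra p (prime k) K) •
          EGA41.pMonomial (fun b : B => algebraMap k K b) e.1 = 0 := by
      rw [← hg]
      simp only [hgj, Finset.sum_smul]
      rw [Finset.sum_comm]
      refine Finset.sum_congr rfl fun e _ => ?_
      rw [Subalgebra.smul_def, smul_eq_mul]
      show C e ^ p * _ = _
      rw [← Groth.Agent.PBasis12.map_pMonomial (algebraMap k K) (Subtype.val : B → k) e.1]
      simp only [C]
      rw [sum_pow_char, Finset.sum_mul]
      refine Finset.sum_congr rfl fun j _ => ?_
      rw [Algebra.smul_def, Algebra.smul_def, map_mul, map_pow, mul_pow]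
      ring
    intro j
    rw [hgj]
    refine Finset.sum_eq_zero fun e he => ?_
    have h0 := linearIndependent_iff'.mp hli T _ hsum e he
    have hC : C e = 0 := (pow_eq_zero_iff hp0.ne').mp (congrArg Subtype.val h0)
    rw [Fintype.linearIndependent_iff.mp hs _ hC j, zero_pow hp0.ne', zero_mul]

theorem isGeometricallyReduced_iff_injective :
    Algebra.IsGeometricallyReduced k K ↔ Function.Injective (mapBaseChange ℤ k K) := by
  obtain _ | ⟨p, hp, hpk⟩ := CharP.exists' k
  · exact iff_of_true (Groth.Agent.FBase64.isGeometricallyReduced_of_perfectField k K)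
      (formallySmooth_iff_injective.mp (formallySmooth_of_perfectField k K))
  · rw [← powIndep_iff_injective p]
    exact ⟨fun _ => powIndep_of_isGeometricallyReduced p, isGeometricallyReduced_of_powIndep p⟩

theorem formallySmooth_iff_isGeometricallyReduced :
    Algebra.FormallySmooth k K ↔ Algebra.IsGeometricallyReduced k K := by
  rw [formallySmooth_iff_injective, isGeometricallyReduced_iff_injective]

theorem injective_iff_derivation_extends :
    Function.Injective (mapBaseChange ℤ k K) ↔
      ∀ D' : Derivation ℤ k K, ∃ D'' : Derivation ℤ K K, ∀ a, D'' (algebraMap k K a) = D' a := by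
  constructor
  · intro h D'
    obtain ⟨g, hg⟩ := (mapBaseChange ℤ k K).exists_leftInverse_of_injective (LinearMap.ker_eq_bot.mpr h)
    refine ⟨((D'.liftKaehlerDifferential.liftBaseChange K) ∘ₗ g).compDer (D ℤ K), fun a => ?_⟩
    have h1 : g (D ℤ K (algebraMap k K a)) = (1 : K) ⊗ₜ D ℤ k a := by
      have := LinearMap.congr_fun hg ((1 : K) ⊗ₜ D ℤ k a)
      simpa using this
    show D'.liftKaehlerDifferential.liftBaseChange K (g (D ℤ K (algebraMap k K a))) = D' a
    rw [h1, LinearMap.liftBaseChange_tmul, one_smul, Derivation.liftKaehlerDifferential_comp_D]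
  · intro h
    rw [← LinearMap.dualMap_surjective_iff]
    intro φ
    let φ' : Ω[k⁄ℤ] →ₗ[k] K := (φ.restrictScalars k) ∘ₗ TensorProduct.mk k K Ω[k⁄ℤ] 1
    obtain ⟨D'', hD''⟩ := h (φ'.compDer (D ℤ k))
    refine ⟨D''.liftKaehlerDifferential, ?_⟩
    apply TensorProduct.AlgebraTensorModule.curry_injective
    apply LinearMap.ext_ring
    apply Derivation.liftKaehlerDifferential_unique
    ext a
    simpa [φ'] using hD'' a

end Groth.Agent.Sep12
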