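import Groth.Agent.Sep12.Basic
import Groth.Agent.Var76.KaehlerGen
import Mathlib.RingTheory.Unramified.Field
import Mathlib.RingTheory.Extension.Cotangent.Basic
import Mathlib.LinearAlgebra.Dimension.RankNullity

/-!
Cartier's equality: for a finitely generated field extension, `dim Ω - dim H₁` is the transcendence degree.
-/

set_option autoImplicit false

universe u v

open TensorProduct KaehlerDifferential

namespace Groth.Agent.Sep12

section HasIndex

variable {F : Type u} [Field F] {U V W : Type v} [AddCommGroup U] [AddCommGroup V] [AddCommGroup W]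
  [Module F U] [Module F V] [Module F W]

/-- A linear map with finite kernel and cokernel and index `n`. -/
structure HasIndex (f : U →ₗ[F] V) (n : ℤ) : Prop where
  finite_ker : Module.Finite F (LinearMap.ker f)
  finite_coker : Module.Finite F (V ⧸ LinearMap.range f)
  index_eq : (Module.finrank F (V ⧸ LinearMap.range f) : ℤ) - Module.finrank F (LinearMap.ker f) = n

theorem finite_of_ker_range (f : U →ₗ[F] V) [Module.Finite F (LinearMap.ker f)]
    [Module.Finite F (LinearMap.range f)] : Module.Finite F U := by
  have := Module.Finite.equiv f.quotKerEquivRange.symm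
  exact Module.Finite.of_submodule_quotient (LinearMap.ker f)

theorem HasIndex.comp {f : U →ₗ[F] V} {g : V →ₗ[F] W} {m n : ℤ}
    (hf : HasIndex f m) (hg : HasIndex g n) : HasIndex (g ∘ₗ f) (m + n) := by
  obtain ⟨_, _, hf⟩ := hf
  obtain ⟨_, _, hg⟩ := hg
  let f0 : LinearMap.ker (g ∘ₗ f) →ₗ[F] LinearMap.ker g :=
    f.restrict (p := LinearMap.ker (g ∘ₗ f)) (q := LinearMap.ker g) (fun x hx => hx)
  let p : LinearMap.ker g →ₗ[F] V ⧸ LinearMap.range f :=
    (LinearMap.range f).mkQ ∘ₗ (LinearMap.ker g).subtype
  have hle : LinearMap.range f ≤ (LinearMap.range (g ∘ₗ f)).comap g := by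
    rintro _ ⟨x, rfl⟩; exact ⟨x, rfl⟩
  let q := (LinearMap.range f).mapQ (LinearMap.range (g ∘ₗ f)) g hle
  have hle' : LinearMap.range (g ∘ₗ f) ≤ (LinearMap.range g).comap (LinearMap.id : W →ₗ[F] W) :=
    fun x hx => LinearMap.range_comp_le_range f g hx
  let r := (LinearMap.range (g ∘ₗ f)).mapQ (LinearMap.range g) LinearMap.id hle'
  let e : LinearMap.ker f ≃ₗ[F] LinearMap.ker f0 :=
    LinearEquiv.ofBijective
      (LinearMap.codRestrict (LinearMap.ker f0)
        (LinearMap.codRestrict (LinearMap.ker (g ∘ₗ f)) (LinearMap.ker f).subtype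
          fun x => by simp)
        fun x => Subtype.ext (LinearMap.mem_ker.mp x.2))
      ⟨fun x y h => Subtype.ext (congrArg (fun z => z.1.1) h),
        fun z => ⟨⟨z.1.1, congrArg Subtype.val (LinearMap.mem_ker.mp z.2)⟩, rfl⟩⟩
  have h0 : LinearMap.ker p = LinearMap.range f0 := by
    ext x
    simp only [p, LinearMap.mem_ker, LinearMap.comp_apply, Submodule.mkQ_apply,
      Submodule.subtype_apply, Submodule.Quotient.mk_eq_zero, LinearMap.mem_range]
    constructor
    · rintro ⟨y, hy⟩
      exact ⟨⟨y, by simp [hy]⟩, Subtype.ext hy⟩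
    · rintro ⟨y, rfl⟩; exact ⟨y.1, rfl⟩
  have h1 : LinearMap.ker q = LinearMap.range p := by
    ext x
    obtain ⟨x, rfl⟩ := Submodule.Quotient.mk_surjective _ x
    simp only [q, p, LinearMap.mem_ker, Submodule.mapQ_apply, Submodule.Quotient.mk_eq_zero,
      LinearMap.mem_range, LinearMap.comp_apply, Submodule.subtype_apply, Submodule.mkQ_apply,
      Submodule.Quotient.eq]
    constructor
    · rintro ⟨y, hy⟩
      exact ⟨⟨x - f y, by simp [hy]⟩, -y, by simp⟩
    · rintro ⟨⟨z, hz⟩, y, hy⟩
      refine ⟨-y, ?_⟩
      rw [LinearMap.mem_ker] at hz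
      simp only at hy
      simp [hy, hz]
  have h2 : LinearMap.ker r = LinearMap.range q := by
    ext x
    obtain ⟨x, rfl⟩ := Submodule.Quotient.mk_surjective _ x
    simp only [r, q, LinearMap.mem_ker, Submodule.mapQ_apply, Submodule.Quotient.mk_eq_zero,
      LinearMap.mem_range, LinearMap.id_coe, id_eq]
    constructor
    · rintro ⟨y, hy⟩
      exact ⟨Submodule.Quotient.mk y, by rw [Submodule.mapQ_apply, hy]⟩
    · rintro ⟨y, hy⟩
      obtain ⟨y, rfl⟩ := Submodule.Quotient.mk_surjective _ y
      rw [Submodule.mapQ_apply, Submodule.Quotient.eq] at hy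
      obtain ⟨z, hz⟩ := hy
      exact ⟨y - f z, by rw [map_sub, ← LinearMap.comp_apply, hz]; abel⟩
  have h3 : LinearMap.range r = ⊤ := LinearMap.range_eq_top.mpr fun x => by
    obtain ⟨x, rfl⟩ := Submodule.Quotient.mk_surjective _ x
    exact ⟨Submodule.Quotient.mk x, rfl⟩
  have : Module.Finite F (LinearMap.ker f0) := Module.Finite.equiv e
  have : Module.Finite F (LinearMap.ker g) := inferInstance
  have hker : Module.Finite F (LinearMap.ker (g ∘ₗ f)) := finite_of_ker_range f0
  have : Module.Finite F (LinearMap.ker r) := h2 ▸ inferInstance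
  have : Module.Finite F (LinearMap.range r) :=
    h3 ▸ (Module.Finite.equiv Submodule.topEquiv.symm)
  have hcok : Module.Finite F (W ⧸ LinearMap.range (g ∘ₗ f)) := finite_of_ker_range r
  refine ⟨hker, hcok, ?_⟩
  have e0 := f0.finrank_range_add_finrank_ker
  have e1 := p.finrank_range_add_finrank_ker
  have e2 := q.finrank_range_add_finrank_ker
  have e3 := r.finrank_range_add_finrank_ker
  rw [← e.finrank_eq] at e0
  rw [h0] at e1
  rw [h1] at e2
  rw [h2, h3, finrank_top] at e3
  omega

theorem hasIndex_equiv (e : U ≃ₗ[F] V) : HasIndex e.toLinearMap 0 := by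
  have h1 : LinearMap.ker e.toLinearMap = ⊥ := LinearEquiv.ker e
  have h2 : LinearMap.range e.toLinearMap = ⊤ := LinearEquiv.range e
  have : Subsingleton (V ⧸ LinearMap.range e.toLinearMap) := by
    rw [h2]; exact Submodule.Quotient.subsingleton_iff.mpr rfl
  refine ⟨h1 ▸ inferInstance, inferInstance, ?_⟩
  rw [Module.finrank_zero_of_subsingleton, h1, finrank_bot]
  simp

theorem HasIndex.baseChange {K : Type u} [Field K] [Algebra F K] {f : U →ₗ[F] V} {n : ℤ}
    (h : HasIndex f n) : HasIndex (f.baseChange K) n := by
  obtain ⟨_, _, h⟩ := h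
  let i := (LinearMap.ker f).subtype.baseChange K
  have hi : Function.Injective i :=
    Module.Flat.lTensor_preserves_injective_linearMap (M := K) _ Subtype.val_injective
  have hik : LinearMap.ker (f.baseChange K) = LinearMap.range i := by
    ext x
    exact (Module.Flat.lTensor_exact K (LinearMap.exact_subtype_ker_map f)) x
  let c := (LinearMap.range f).mkQ.baseChange K
  have hc : Function.Surjective c := LinearMap.lTensor_surjective K (Submodule.mkQ_surjective _)
  have hck : LinearMap.ker c = LinearMap.range (f.baseChange K) := by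
    ext x
    exact (Module.Flat.lTensor_exact K (LinearMap.exact_map_mkQ_range f)) x
  let ek := (LinearEquiv.ofInjective i hi).trans (LinearEquiv.ofEq _ _ hik.symm)
  let ec := (Submodule.quotEquivOfEq _ _ hck.symm).trans (c.quotKerEquivOfSurjective hc)
  refine ⟨Module.Finite.equiv ek, Module.Finite.equiv ec.symm, ?_⟩
  rw [ec.finrank_eq, ← ek.finrank_eq, Module.finrank_baseChange, Module.finrank_baseChange]
  exact h

end HasIndex

variable {k K : Type u} [Field k] [Field K] [Algebra k K]

/-- The kernel of `K ⊗ Ω[k/ℤ] → Ω[K/ℤ]` is the first cotangent homology of `K / k`. -/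
theorem δ_int_injective : Function.Injective (Algebra.H1Cotangent.δ ℤ k K) := by
  rw [injective_iff_map_eq_zero]
  intro y hy
  obtain ⟨z, rfl⟩ := (Algebra.H1Cotangent.exact_map_δ ℤ k K y).mp hy
  have := formallySmooth_of_perfectField (prime k) K
  have hfac : Algebra.H1Cotangent.map ℤ k K K z =
      Algebra.H1Cotangent.map (prime k) k K K (Algebra.H1Cotangent.map ℤ (prime k) K K z) := by
    show Algebra.Extension.H1Cotangent.map _ z =
      Algebra.Extension.H1Cotangent.map _ (Algebra.Extension.H1Cotangent.map _ z)
    rw [← Algebra.Extension.H1Cotangent.map_comp_apply]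
    congr 1
    apply Algebra.Extension.H1Cotangent.map_eq
  rw [hfac, Subsingleton.elim (Algebra.H1Cotangent.map ℤ (prime k) K K z) 0, map_zero]

noncomputable def kerEquivH1 :
    Algebra.H1Cotangent k K ≃ₗ[K] LinearMap.ker (mapBaseChange ℤ k K) :=
  (LinearEquiv.ofInjective _ δ_int_injective).trans
    (LinearEquiv.ofEq _ _ (Algebra.H1Cotangent.exact_δ_mapBaseChange ℤ k K).linearMap_ker_eq.symm)

noncomputable def cokerEquiv :
    ((Ω[K⁄ℤ]) ⧸ LinearMap.range (mapBaseChange ℤ k K)) ≃ₗ[K] Ω[K⁄k] :=
  (Submodule.quotEquivOfEq _ _ (exact_mapBaseChange_map ℤ k K).linearMap_ker_eq.symm).trans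
    (LinearMap.quotKerEquivOfSurjective _ (map_surjective ℤ k K))

theorem hasIndex_iff (n : ℤ) : HasIndex (mapBaseChange ℤ k K) n ↔
    Module.Finite K (Algebra.H1Cotangent k K) ∧ Module.Finite K Ω[K⁄k] ∧
      (Module.finrank K Ω[K⁄k] : ℤ) - Module.finrank K (Algebra.H1Cotangent k K) = n := by
  constructor
  · rintro ⟨_, _, h⟩
    refine ⟨Module.Finite.equiv kerEquivH1.symm, Module.Finite.equiv cokerEquiv, ?_⟩
    rwa [← cokerEquiv.finrank_eq, kerEquivH1.finrank_eq]
  · rintro ⟨_, _, h⟩
    refine ⟨Module.Finite.equiv kerEquivH1, Module.Finite.equiv cokerEquiv.symm, ?_⟩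
    rwa [cokerEquiv.finrank_eq, ← kerEquivH1.finrank_eq]

/-- Cartier's equality for a monogenic extension. -/
theorem hasIndex_simple (x : K) (hx : IntermediateField.adjoin k {x} = ⊤) :
    HasIndex (mapBaseChange ℤ k K) (Cardinal.toNat (Algebra.trdeg k K)) := by
  classical
  have : Algebra.EssFiniteType k K := IntermediateField.fg_top_iff.mp ⟨{x}, by simpa using hx⟩
  rw [hasIndex_iff]
  by_cases halg : IsAlgebraic k x
  · -- algebraic: `K = k[X] / (f)`
    have : Algebra.IsAlgebraic k K := by
      have := IntermediateField.isAlgebraic_adjoin_simple halg.isIntegral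
      rw [hx] at this
      exact IntermediateField.topEquiv.isAlgebraic
    have hsurj : Function.Surjective (MvPolynomial.aeval (R := k) fun _ : Unit => x) := by
      intro y
      have h1 := IntermediateField.adjoin_simple_toSubalgebra_of_isAlgebraic halg
      rw [hx, IntermediateField.top_toSubalgebra] at h1
      have hy : y ∈ (MvPolynomial.aeval (R := k) fun _ : Unit => x).range := by
        rw [← Algebra.adjoin_range_eq_range_aeval, Set.range_const, ← h1]
        trivial
      exact hy
    let P : Algebra.Generators k K Unit := Algebra.Generators.ofSurjective _ hsurj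
    let eU : Polynomial k →+* MvPolynomial Unit k :=
      ((MvPolynomial.uniqueAlgEquiv k Unit).symm : Polynomial k →+* MvPolynomial Unit k)
    have : IsPrincipalIdealRing (MvPolynomial Unit k) :=
      IsPrincipalIdealRing.of_surjective eU (MvPolynomial.uniqueAlgEquiv k Unit).symm.surjective
    have : IsPrincipalIdealRing P.toExtension.Ring :=
      inferInstanceAs (IsPrincipalIdealRing (MvPolynomial Unit k))
    have : IsDomain P.toExtension.Ring := inferInstanceAs (IsDomain (MvPolynomial Unit k))
    obtain ⟨g, hg⟩ := (IsPrincipalIdealRing.principal (S := P.toExtension.ker)).principal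
    have hne : P.toExtension.ker ≠ ⊥ := by
      intro hbot
      have hinj : Function.Injective (MvPolynomial.aeval (R := k) fun _ : Unit => x) := by
        rw [injective_iff_map_eq_zero]
        intro a ha
        have : (show P.toExtension.Ring from a) ∈ P.toExtension.ker := ha
        rw [hbot] at this
        exact Ideal.mem_bot.mp this
      have hind : AlgebraicIndependent k (fun _ : Unit => x) := hinj
      exact hind.transcendental () halg
    have hg0 : g ≠ 0 := fun h => hne (by rw [hg, h]; simp)
    let c : P.toExtension.Cotangent :=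
      Algebra.Extension.Cotangent.mk ⟨g, hg ▸ Submodule.mem_span_singleton_self g⟩
    have hspan : Submodule.span K {c} = ⊤ := by
      refine eq_top_iff.mpr fun y _ => ?_
      obtain ⟨⟨y, hy⟩, rfl⟩ := Algebra.Extension.Cotangent.mk_surjective y
      have hy' := hy
      rw [hg, Submodule.mem_span_singleton] at hy'
      obtain ⟨a, ha⟩ := hy'
      refine Submodule.mem_span_singleton.mpr ⟨algebraMap P.toExtension.Ring K a, ?_⟩
      rw [algebraMap_smul, ← map_smul]
      exact congrArg _ (Subtype.ext ha)
    have hc : c ≠ 0 := by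
      intro h
      have h2 : g ∈ P.toExtension.ker ^ 2 := Algebra.Extension.Cotangent.mk_eq_zero_iff _ |>.mp h
      have hg' : P.toExtension.ker = Ideal.span {g} := hg
      rw [hg', Ideal.span_singleton_pow, Ideal.mem_span_singleton] at h2
      obtain ⟨a, ha⟩ := h2
      have : IsUnit g := IsUnit.of_mul_eq_one a (mul_left_cancel₀ hg0 (by linear_combination -ha))
      have htop : P.toExtension.ker = ⊤ := by
        rw [hg]; exact Ideal.span_singleton_eq_top.mpr this
      exact one_ne_zero (α := K) (by
        have := (Ideal.eq_top_iff_one _).mp htop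
        simpa using (RingHom.mem_ker.mp this))
    have hd1 : Module.finrank K P.toExtension.Cotangent = 1 := finrank_eq_one_iff'.mpr ⟨c, hc,
      fun w => Submodule.mem_span_singleton.mp (hspan ▸ Submodule.mem_top)⟩
    have : Module.Finite K P.toExtension.Cotangent := Module.finite_of_finrank_eq_succ hd1
    have hd2 : Module.finrank K P.toExtension.CotangentSpace = 1 := by
      rw [Module.finrank_eq_card_basis P.cotangentSpaceBasis]; rfl
    have : Module.Finite K P.toExtension.CotangentSpace := Module.finite_of_finrank_eq_succ hd2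
    have e0 := P.toExtension.cotangentComplex.finrank_range_add_finrank_ker
    have e1 := P.toExtension.toKaehler.finrank_range_add_finrank_ker
    rw [(P.toExtension.exact_cotangentComplex_toKaehler).linearMap_ker_eq,
      LinearMap.range_eq_top.mpr P.toExtension.toKaehler_surjective, finrank_top] at e1
    have : Module.Finite K (LinearMap.ker P.toExtension.cotangentComplex) := inferInstance
    have : Module.Finite K P.toExtension.H1Cotangent := ‹Module.Finite K (LinearMap.ker P.toExtension.cotangentComplex)›
    refine ⟨Module.Finite.equiv (P.equivH1Cotangent : P.toExtension.H1Cotangent ≃ₗ[K] _),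
      Module.Finite.of_surjective _ P.toExtension.toKaehler_surjective, ?_⟩
    have e2 : Module.finrank K (Algebra.H1Cotangent k K) = Module.finrank K (LinearMap.ker P.toExtension.cotangentComplex) :=
      P.equivH1Cotangent.finrank_eq.symm
    rw [trdeg_eq_zero, map_zero]
    omega
  · -- transcendental
    have hai : AlgebraicIndependent k ((↑) : ({x} : Set K) → K) :=
      algebraicIndependent_unique_type_iff.mpr halg
    have : Algebra.IsSeparable (IntermediateField.adjoin k (Set.range ((↑) : ({x} : Set K) → K))) K := by
      refine ⟨fun y => ?_⟩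
      have hy : y ∈ IntermediateField.adjoin k (Set.range ((↑) : ({x} : Set K) → K)) := by
        rw [Subtype.range_coe, hx]; trivial
      exact isSeparable_algebraMap (⟨y, hy⟩ : IntermediateField.adjoin k _)
    have : Algebra.FormallySmooth k K :=
      Algebra.FormallySmooth.of_algebraicIndependent_of_isSeparable hai
    have hspan : Submodule.span K {D k K x} = ⊤ := by
      let S : IntermediateField k K :=
        { carrier := {y | D k K y ∈ Submodule.span K {D k K x}}
          mul_mem' := fun {a b} (ha : D k K a ∈ _) (hb : D k K b ∈ _) => by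
            show D k K (a * b) ∈ Submodule.span K {D k K x}
            rw [Derivation.leibniz]
            exact add_mem (Submodule.smul_mem _ _ hb) (Submodule.smul_mem _ _ ha)
          add_mem' := fun {a b} (ha : D k K a ∈ _) (hb : D k K b ∈ _) => by
            show D k K (a + b) ∈ Submodule.span K {D k K x}
            rw [map_add]
            exact add_mem ha hb
          algebraMap_mem' := fun a => by
            show D k K _ ∈ Submodule.span K {D k K x}
            rw [Derivation.map_algebraMap]
            exact zero_mem _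
          inv_mem' := fun a (ha : D k K a ∈ _) => by
            show D k K a⁻¹ ∈ Submodule.span K {D k K x}
            rw [Derivation.leibniz_inv]
            exact Submodule.smul_mem _ _ ha }
      have hS : S = ⊤ := top_le_iff.mp (hx ▸ IntermediateField.adjoin_simple_le_iff.mpr
        (Submodule.mem_span_singleton_self _ : D k K x ∈ Submodule.span K {D k K x}))
      refine top_le_iff.mp ((span_range_derivation k K).symm.le.trans (Submodule.span_le.mpr ?_))
      rintro _ ⟨y, rfl⟩
      have : y ∈ S := hS ▸ trivial
      exact this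
    have hfin : Module.Finite K Ω[K⁄k] :=
      ⟨⟨{D k K x}, by rw [Finset.coe_singleton, hspan]⟩⟩
    have hle : Module.finrank K Ω[K⁄k] ≤ 1 :=
      Groth.Agent.Var76.KaehlerGen.finrank_le_of_span (r := 1) (fun _ => D k K x) (by rwa [Set.range_const])
    have htr := Groth.Agent.Var76.KaehlerGen.trdeg_le_finrank k K
    have hne : Algebra.trdeg k K ≠ 0 := fun h =>
      halg ((trdeg_eq_zero_iff.mp h).isAlgebraic x)
    have hlt : Algebra.trdeg k K < Cardinal.aleph0 := htr.trans_lt Cardinal.natCast_lt_aleph0
    have hne' : Cardinal.toNat (Algebra.trdeg k K) ≠ 0 := by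
      rw [Ne, Cardinal.toNat_eq_zero]; push Not; exact ⟨hne, hlt⟩
    have hle' : Cardinal.toNat (Algebra.trdeg k K) ≤ Module.finrank K Ω[K⁄k] := by
      have h1 := Cardinal.toNat_le_toNat htr Cardinal.natCast_lt_aleph0
      rwa [Cardinal.toNat_natCast] at h1
    refine ⟨inferInstance, hfin, ?_⟩
    rw [Module.finrank_zero_of_subsingleton (M := Algebra.H1Cotangent k K)]
    omega

theorem hasIndex_tower {L : Type u} [Field L] [Algebra k L] [Algebra K L] [IsScalarTower k K L]
    [Algebra.EssFiniteType k K] [Algebra.EssFiniteType K L]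
    (h1 : HasIndex (mapBaseChange ℤ k K) (Cardinal.toNat (Algebra.trdeg k K)))
    (h2 : HasIndex (mapBaseChange ℤ K L) (Cardinal.toNat (Algebra.trdeg K L))) :
    HasIndex (mapBaseChange ℤ k L) (Cardinal.toNat (Algebra.trdeg k L)) := by
  have h := ((hasIndex_equiv
    (TensorProduct.AlgebraTensorModule.cancelBaseChange k K L L Ω[k⁄ℤ]).symm).comp
      (h1.baseChange (K := L))).comp h2
  have e : mapBaseChange ℤ K L ∘ₗ LinearMap.baseChange L (mapBaseChange ℤ k K) ∘ₗ
      (TensorProduct.AlgebraTensorModule.cancelBaseChange k K L L Ω[k⁄ℤ]).symm.toLinearMap =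
      mapBaseChange ℤ k L := by
    apply TensorProduct.AlgebraTensorModule.curry_injective
    apply LinearMap.ext_ring
    apply Derivation.liftKaehlerDifferential_unique
    ext a
    simp [← IsScalarTower.algebraMap_apply]
  rw [e] at h
  convert h using 1
  rw [← trdeg_add_eq k K, zero_add, Cardinal.toNat_add, Nat.cast_add]
  · exact (Groth.Agent.Var76.KaehlerGen.trdeg_le_finrank k K).trans_lt Cardinal.natCast_lt_aleph0
  · exact (Groth.Agent.Var76.KaehlerGen.trdeg_le_finrank K L).trans_lt Cardinal.natCast_lt_aleph0

theorem adjoin_gen_eq_top {E : Type u} [Field E] [Algebra k E] (x : E) :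
    IntermediateField.adjoin k
      {(⟨x, IntermediateField.mem_adjoin_simple_self k x⟩ : IntermediateField.adjoin k {x})} = ⊤ := by
  apply IntermediateField.map_injective (IntermediateField.adjoin k {x}).val
  rw [IntermediateField.adjoin_map, Set.image_singleton, ← AlgHom.fieldRange_eq_map,
    IntermediateField.fieldRange_val]
  rfl

/-- **Cartier's equality.** -/
theorem hasIndex_mapBaseChange [Algebra.EssFiniteType k K] :
    HasIndex (mapBaseChange ℤ k K) (Cardinal.toNat (Algebra.trdeg k K)) := by
  have key : ∀ E : IntermediateField k K, E.FG →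
      Algebra.EssFiniteType k E ∧ HasIndex (mapBaseChange ℤ k E) (Cardinal.toNat (Algebra.trdeg k E)) := by
    refine IntermediateField.induction_on_adjoin_fg
      (P := fun E : IntermediateField k K => Algebra.EssFiniteType k E ∧
        HasIndex (mapBaseChange ℤ k E) (Cardinal.toNat (Algebra.trdeg k E))) ?_ ?_
    · refine ⟨IntermediateField.essFiniteType_iff.mpr IntermediateField.fg_bot, ?_⟩
      refine hasIndex_simple 0 (eq_top_iff.mpr fun y _ => ?_)
      obtain ⟨a, ha⟩ := IntermediateField.mem_bot.mp y.2
      have : algebraMap k (⊥ : IntermediateField k K) a = y := Subtype.ext ha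
      exact this ▸ IntermediateField.algebraMap_mem _ a
    · intro E x ⟨_, hE⟩
      have htop := adjoin_gen_eq_top (k := E) x
      have : Algebra.EssFiniteType E (IntermediateField.adjoin E {x}) :=
        IntermediateField.fg_top_iff.mp ⟨{_}, by rw [Finset.coe_singleton]; exact htop⟩
      have h' := hasIndex_simple (k := E) _ htop
      exact ⟨Algebra.EssFiniteType.comp k E (IntermediateField.adjoin E {x}),
        hasIndex_tower (k := k) (K := E) (L := IntermediateField.adjoin E {x}) hE h'⟩
  obtain ⟨_, h⟩ := key ⊤ (IntermediateField.fg_top k K)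
  have htop : IntermediateField.adjoin (⊤ : IntermediateField k K) {(0 : K)} = ⊤ :=
    eq_top_iff.mpr fun y _ => IntermediateField.algebraMap_mem _ (⟨y, trivial⟩ : (⊤ : IntermediateField k K))
  have : Algebra.EssFiniteType (⊤ : IntermediateField k K) K :=
    IntermediateField.fg_top_iff.mp ⟨{0}, by rw [Finset.coe_singleton]; exact htop⟩
  exact hasIndex_tower h (hasIndex_simple 0 htop)

theorem cartier [Algebra.EssFiniteType k K] :
    Module.Finite K (Algebra.H1Cotangent k K) ∧ Module.Finite K Ω[K⁄k] ∧
      (Module.finrank K Ω[K⁄k] : ℤ) - Module.finrank K (Algebra.H1Cotangent k K) =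
        Cardinal.toNat (Algebra.trdeg k K) :=
  (hasIndex_iff _).mp hasIndex_mapBaseChange

end Groth.Agent.Sep12
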