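import Groth.Agent.PBasis12.Field
import Groth.Prelude.Def_EGA41
import Mathlib.RingTheory.Flat.Basic
import Mathlib.LinearAlgebra.TensorProduct.RightExactness
import Mathlib.RingTheory.Kaehler.TensorProduct

/-!
Admissible subfields for a filtered family of subfields of a field of characteristic `p`.
-/

set_option autoImplicit false

universe u

open TensorProduct KaehlerDifferential EGA41

namespace Groth.Agent.Sep12

variable {p : ℕ} [Fact p.Prime] {k₀ K : Type u} [Field k₀] [Field K] [Algebra k₀ K] [CharP K p]

variable (p k₀ K) in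
/-- The subfield generated by the `p`-th powers. -/
noncomputable abbrev powField : IntermediateField k₀ K :=
  IntermediateField.adjoin k₀ (Set.range fun y : K => y ^ p)

/-- `F[K^p]`, as a set, is the compositum of `F` and `k₀(K^p)`. -/
theorem mem_pPower_iff (F : IntermediateField k₀ K) (c : K) :
    c ∈ pPowerSubalgebra p F K ↔ c ∈ F ⊔ powField p k₀ K := by
  constructor
  · intro h
    induction h using Algebra.adjoin_induction with
    | mem x hx =>
      exact (le_sup_right : powField p k₀ K ≤ F ⊔ powField p k₀ K) (IntermediateField.subset_adjoin _ _ hx)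
    | algebraMap a => exact (le_sup_left : F ≤ F ⊔ powField p k₀ K) a.2
    | add x y _ _ hx hy => exact add_mem hx hy
    | mul x y _ _ hx hy => exact mul_mem hx hy
  · intro h
    let G : IntermediateField F K :=
      PBasis12.fieldOf (pPowerSubalgebra p F K) (fun y => PBasis12.pow_mem_pPower y)
    have h1 : F ⊔ powField p k₀ K ≤ G.restrictScalars k₀ := by
      refine sup_le (fun x hx => G.algebraMap_mem (⟨x, hx⟩ : F)) ?_
      rw [IntermediateField.adjoin_le_iff]
      rintro _ ⟨y, rfl⟩
      exact PBasis12.pow_mem_pPower y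
    exact h1 h

theorem mem_pPower_base_iff (c : K) :
    c ∈ pPowerSubalgebra p k₀ K ↔ c ∈ powField p k₀ K := by
  constructor
  · intro h
    induction h using Algebra.adjoin_induction with
    | mem x hx => exact IntermediateField.subset_adjoin _ _ hx
    | algebraMap a => exact IntermediateField.algebraMap_mem _ a
    | add x y _ _ hx hy => exact add_mem hx hy
    | mul x y _ _ hx hy => exact mul_mem hx hy
  · intro h
    have h1 : powField p k₀ K ≤
        PBasis12.fieldOf (pPowerSubalgebra p k₀ K) (fun y => PBasis12.pow_mem_pPower y) := by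
      rw [IntermediateField.adjoin_le_iff]
      rintro _ ⟨y, rfl⟩
      exact PBasis12.pow_mem_pPower y
    exact h1 h

theorem mem_span_monomial {A B : Type u} [CommRing A] [CommRing B] [Algebra A B] {ι : Type u}
    (x : ι → B) {c : B} (hc : c ∈ Algebra.adjoin (pPowerSubalgebra p A B) (Set.range x)) :
    c ∈ Submodule.span (pPowerSubalgebra p A B)
      (Set.range fun e : PBasis12.Red p ι => pMonomial x e.1) := by
  let s : ι → pPowerSubalgebra p A B := fun i => ⟨x i ^ p, PBasis12.pow_mem_pPower _⟩
  rw [Algebra.adjoin_range_eq_range_aeval] at hc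
  obtain ⟨f, hf⟩ := hc
  obtain ⟨g, hg, hfg⟩ := PBasis12.exists_reduced (p := p) s f
  have h0 : PBasis12.relIdeal p s ≤ RingHom.ker
      (MvPolynomial.aeval x : MvPolynomial ι (pPowerSubalgebra p A B) →ₐ[_] B) := by
    rw [PBasis12.relIdeal, Ideal.span_le]
    rintro _ ⟨i, rfl⟩
    simp [s]
  have h1 : MvPolynomial.aeval x f = MvPolynomial.aeval x g := by
    rw [← sub_eq_zero, ← map_sub]
    exact h0 hfg
  rw [← hf]
  show MvPolynomial.aeval x f ∈ _
  rw [h1]
  clear hfg h1
  induction hg using Submodule.span_induction with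
  | mem y hy =>
    obtain ⟨e, rfl⟩ := hy
    rw [PBasis12.aeval_monomial_one]
    exact Submodule.subset_span ⟨e, rfl⟩
  | zero => simp
  | add y z _ _ hy hz => rw [map_add]; exact add_mem hy hz
  | smul a y _ hy => rw [map_smul]; exact Submodule.smul_mem _ a hy

theorem notMem_powField_iff (x : K) : x ∉ powField p k₀ K ↔ D k₀ K x ≠ 0 := by
  have h1 := PBasis12.isPIndependent_iff_D (p := p) (k := k₀) (fun _ : PUnit.{u + 1} => x)
  rw [PBasis12.isPIndependent_iff, linearIndependent_unique_iff] at h1
  rw [← h1, ← mem_pPower_base_iff]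
  constructor
  · intro hx a ha
    apply hx
    have : (fun _ : PUnit.{u + 1} => x) '' {b | b ≠ a} = ∅ := by
      ext z
      simp [Subsingleton.elim _ a]
    rw [this, Algebra.adjoin_empty] at ha
    obtain ⟨s, hs⟩ := Algebra.mem_bot.mp ha
    exact hs ▸ s.2
  · intro h hx
    exact h PUnit.unit (Subalgebra.algebraMap_mem _ (⟨x, hx⟩ : pPowerSubalgebra p k₀ K))

variable {ι : Type u} [Preorder ι] [IsDirected ι (· ≤ ·)] [Nonempty ι]
  (k : ι → IntermediateField k₀ K) (hk : Antitone k)
  (h : (⨅ i, k i ⊔ powField p k₀ K) = powField p k₀ K)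

omit [IsDirected ι (· ≤ ·)] [Nonempty ι] in
include hk in
theorem pPower_mono {i j : ι} (hij : i ≤ j) {c : K} (hc : c ∈ pPowerSubalgebra p (k j) K) :
    c ∈ pPowerSubalgebra p (k i) K := by
  rw [mem_pPower_iff] at hc ⊢
  exact sup_le_sup_right (hk hij) _ hc

omit [IsDirected ι (· ≤ ·)] [Nonempty ι] in
include hk in
theorem isPIndependent_mono {σ : Type u} (x : σ → K) {i j : ι} (hij : i ≤ j)
    (hx : IsPIndependent p (k i) x) : IsPIndependent p (k j) x := by
  rw [PBasis12.isPIndependent_iff] at hx ⊢
  intro a ha
  apply hx a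
  generalize x a = c at ha ⊢
  induction ha using Algebra.adjoin_induction with
  | mem y hy => exact Algebra.subset_adjoin hy
  | algebraMap s =>
    exact Subalgebra.algebraMap_mem _ (⟨s, pPower_mono k hk hij s.2⟩ : pPowerSubalgebra p (k i) K)
  | add y z _ _ hy hz => exact add_mem hy hz
  | mul y z _ _ hy hz => exact mul_mem hy hz

include hk h in
/-- A finite family independent over `k₀` stays so over some member of the family. -/
theorem exists_isPIndependent (T : Finset K)
    (hT : IsPIndependent p k₀ (Subtype.val : T → K)) :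
    ∃ i, IsPIndependent p (k i) (Subtype.val : T → K) := by
  classical
  induction T using Finset.induction_on with
  | empty =>
    obtain ⟨i⟩ := ‹Nonempty ι›
    refine ⟨i, (PBasis12.isPIndependent_iff _).mpr fun a => absurd a.2 (Finset.notMem_empty _)⟩
  | @insert c T hc ih =>
    let incl : T → (insert c T : Finset K) := fun t => ⟨t.1, Finset.mem_insert_of_mem t.2⟩
    have hincl : Function.Injective incl := fun a b e => Subtype.ext (congrArg Subtype.val e :)
    have hfun : (Subtype.val ∘ incl : T → K) = (Subtype.val : T → K) := rfl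
    have h1 := PBasis12.isPIndependent_comp hT hincl
    rw [hfun] at h1
    obtain ⟨i, hi⟩ := ih h1
    suffices ∃ j, i ≤ j ∧ c ∉ Algebra.adjoin (pPowerSubalgebra p (k j) K) (Set.range (Subtype.val : T → K)) by
      obtain ⟨j, hij, hj⟩ := this
      have h2 := PBasis12.isPIndependent_option (isPIndependent_mono k hk _ hij hi) hj
      let g : {x // x ∈ insert c T} → Option T := fun a =>
        if ha : a.1 ∈ T then some ⟨a.1, ha⟩ else none
      have hg : ∀ a, (g a).elim c Subtype.val = a.1 := by
        intro a
        by_cases ha : a.1 ∈ T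
        · simp [g, ha]
        · simp only [g, dif_neg ha, Option.elim_none]
          exact ((Finset.mem_insert.mp a.2).resolve_right ha).symm
      have hginj : Function.Injective g := fun a b e => Subtype.ext (by rw [← hg a, ← hg b, e])
      have h3 := PBasis12.isPIndependent_comp h2 hginj
      refine ⟨j, ?_⟩
      convert h3 using 1
      exact funext fun a => (hg a).symm
    by_contra hcon
    push Not at hcon
    -- expansions of `c`
    have hrep : ∀ j, i ≤ j → ∃ a : PBasis12.Red p T →₀ K, (∀ e, a e ∈ pPowerSubalgebra p (k j) K) ∧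
        (a.sum fun e r => r * pMonomial (Subtype.val : T → K) e.1) = c := by
      intro j hj
      obtain ⟨l, hl⟩ := Finsupp.mem_span_range_iff_exists_finsupp.mp (mem_span_monomial _ (hcon j hj))
      refine ⟨l.mapRange Subtype.val rfl, fun e => by rw [Finsupp.mapRange_apply]; exact (l e).2, ?_⟩
      rw [Finsupp.sum_mapRange_index (fun _ => zero_mul _)]
      exact hl
    have huniq : ∀ a b : PBasis12.Red p T →₀ K, (∀ e, a e ∈ pPowerSubalgebra p (k i) K) →
        (∀ e, b e ∈ pPowerSubalgebra p (k i) K) →
        (a.sum fun e r => r * pMonomial (Subtype.val : T → K) e.1) =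
          (b.sum fun e r => r * pMonomial (Subtype.val : T → K) e.1) → a = b := by
      intro a b ha hb hab
      let a' : PBasis12.Red p T →₀ pPowerSubalgebra p (k i) K :=
        Finsupp.onFinset a.support (fun e => ⟨a e, ha e⟩) (fun e he => Finsupp.mem_support_iff.mpr
          fun h0 => he (Subtype.ext h0))
      let b' : PBasis12.Red p T →₀ pPowerSubalgebra p (k i) K :=
        Finsupp.onFinset b.support (fun e => ⟨b e, hb e⟩) (fun e he => Finsupp.mem_support_iff.mpr
          fun h0 => he (Subtype.ext h0))
      have ea : a'.mapRange Subtype.val rfl = a := by ext e; simp [a']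
      have eb : b'.mapRange Subtype.val rfl = b := by ext e; simp [b']
      rw [← ea, ← eb, Finsupp.sum_mapRange_index (fun _ => zero_mul _),
        Finsupp.sum_mapRange_index (fun _ => zero_mul _)] at hab
      have := hi (a₁ := a') (a₂ := b') hab
      rw [← ea, ← eb, this]
    obtain ⟨a, hai, hac⟩ := hrep i le_rfl
    have haP : ∀ e, a e ∈ powField p k₀ K := by
      intro e
      rw [← h, ← SetLike.mem_coe, IntermediateField.coe_iInf, Set.mem_iInter]
      intro j
      obtain ⟨l, hil, hjl⟩ := exists_ge_ge i j
      obtain ⟨b, hbl, hbc⟩ := hrep l hil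
      have := huniq a b hai (fun e => pPower_mono k hk hil (hbl e)) (hac.trans hbc.symm)
      rw [SetLike.mem_coe, ← mem_pPower_iff, this]
      exact pPower_mono k hk hjl (hbl e)
    have hcT : c ∈ Algebra.adjoin (pPowerSubalgebra p k₀ K) (Set.range (Subtype.val : T → K)) := by
      rw [← hac]
      refine sum_mem fun e _ => mul_mem ?_ ?_
      · exact Subalgebra.algebraMap_mem _ (⟨a e, (mem_pPower_base_iff _).mpr (haP e)⟩ : pPowerSubalgebra p k₀ K)
      · exact prod_mem fun t _ => pow_mem (Algebra.subset_adjoin (Set.mem_range_self t)) _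
    refine (PBasis12.isPIndependent_iff _).mp hT ⟨c, Finset.mem_insert_self c T⟩ ?_
    refine Algebra.adjoin_mono ?_ hcT
    rintro _ ⟨t, rfl⟩
    exact ⟨incl t, fun e => hc (by have h2 : t.1 = c := congrArg Subtype.val e; exact h2 ▸ t.2), rfl⟩

include hk h in
/-- A finite dimensional subspace of `L ⊗ Ω[K/k₀]` is seen by some member of the family. -/
theorem exists_forall_eq_zero {L : Type u} [Field L] [Algebra K L]
    (W : Submodule L (L ⊗[K] Ω[K⁄k₀])) [Module.Finite L W] :
    ∃ i, ∀ ω ∈ W, ((KaehlerDifferential.map k₀ (k i) K K).restrictScalars K).baseChange L ω = 0 → ω = 0 := by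
  classical
  obtain ⟨B, -, -, hB⟩ := PBasis12.exists_pBasis_between (p := p) (k := k₀) (K := K)
    Set.univ ∅ (Set.empty_subset _) PBasis12.isPGenerating_univ PBasis12.isPIndependent_empty
  let bb := (PBasis12.kaehlerBasis hB).baseChange L
  obtain ⟨G, hG⟩ := Module.Finite.iff_fg.mp (inferInstance : Module.Finite L W)
  let T : Finset B := G.biUnion fun ω => (bb.repr ω).support
  let T' : Finset K := T.image Subtype.val
  let e : T' → B := fun t => ⟨t.1, by
    obtain ⟨b, -, hb⟩ := Finset.mem_image.mp t.2
    exact hb ▸ b.2⟩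
  have he : Function.Injective e := fun a b hab => Subtype.ext (congrArg Subtype.val hab :)
  have hfun : ((Subtype.val : B → K) ∘ e) = (Subtype.val : T' → K) := funext fun _ => rfl
  have h1 := PBasis12.isPIndependent_comp hB.1 he
  rw [hfun] at h1
  obtain ⟨i, hi⟩ := exists_isPIndependent k hk h T' h1
  refine ⟨i, fun ω hω h0 => ?_⟩
  set f := ((KaehlerDifferential.map k₀ (k i) K K).restrictScalars K).baseChange L
  have hli := Module.Flat.linearIndependent_one_tmul (S := L) ((PBasis12.isPIndependent_iff_D _).mp hi)
  have hW : ∀ w ∈ Submodule.span L (G : Set (L ⊗[K] Ω[K⁄k₀])), ∀ b, b ∉ T → bb.repr w b = 0 := by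
    intro w hw
    induction hw using Submodule.span_induction with
    | mem w hw =>
      intro b hb
      by_contra hne
      exact hb (Finset.mem_biUnion.mpr ⟨w, hw, Finsupp.mem_support_iff.mpr hne⟩)
    | zero => simp
    | add y z _ _ hy hz => intro b hb; rw [map_add, Finsupp.add_apply, hy b hb, hz b hb, add_zero]
    | smul a y _ hy => intro b hb; rw [map_smul, Finsupp.smul_apply, hy b hb, smul_zero]
  have hsupp : ∀ b, bb.repr ω b ≠ 0 → b ∈ T := fun b hb => by
    by_contra hbT
    exact hb (hW ω (hG ▸ hω) b hbT)
  have hsum : ω = ∑ t : T', bb.repr ω (e t) • bb (e t) := by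
    apply bb.repr.injective
    rw [map_sum]
    ext b
    simp only [map_smul, Module.Basis.repr_self, Finsupp.smul_single, smul_eq_mul, mul_one,
      Finsupp.coe_finsetSum, Finset.sum_apply, Finsupp.single_apply]
    by_cases hbT : b ∈ T
    · rw [Finset.sum_eq_single ⟨b.1, Finset.mem_image_of_mem _ hbT⟩]
      · simp [e]
      · intro t _ ht
        rw [if_neg]
        intro hte
        exact ht (Subtype.ext (congrArg Subtype.val hte :))
      · simp
    · rw [Finset.sum_eq_zero]
      · by_contra hne; exact hbT (hsupp b hne)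
      · intro t _
        rw [if_neg]
        intro hte
        obtain ⟨b', hb', hbb⟩ := Finset.mem_image.mp t.2
        exact hbT ((Subtype.ext (hbb.trans (congrArg Subtype.val hte)) : b' = b) ▸ hb')
  have hz : ∑ t : T', bb.repr ω (e t) • ((1 : L) ⊗ₜ[K] D (k i) K t.1) = 0 := by
    rw [← h0]
    conv_rhs => rw [hsum]
    rw [map_sum]
    refine Finset.sum_congr rfl fun t _ => ?_
    rw [map_smul]
    simp only [f, bb, Module.Basis.baseChange_apply, PBasis12.kaehlerBasis_apply,
      LinearMap.baseChange_tmul, LinearMap.restrictScalars_apply, map_D, e]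
    rfl
  have hc := Fintype.linearIndependent_iff.mp hli _ hz
  rw [hsum]
  exact Finset.sum_eq_zero fun t _ => by rw [hc t, zero_smul]

theorem map_baseChange_eq_zero_iff {L : Type u} [Field L] [Algebra K L] (F : IntermediateField k₀ K)
    (ω : L ⊗[K] Ω[K⁄k₀]) :
    ((KaehlerDifferential.map k₀ F K K).restrictScalars K).baseChange L ω = 0 ↔
      ω ∈ Submodule.span L ((fun x : K => (1 : L) ⊗ₜ[K] D k₀ K x) '' F) := by
  constructor
  · intro h0
    have hex : Function.Exact (KaehlerDifferential.mapBaseChange k₀ F K)
        ((KaehlerDifferential.map k₀ F K K).restrictScalars K) := exact_mapBaseChange_map k₀ F K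
    obtain ⟨z, rfl⟩ := (lTensor_exact L hex (map_surjective k₀ F K) ω).mp h0
    clear h0
    induction z with
    | zero => simp
    | add a b ha hb => rw [map_add]; exact add_mem ha hb
    | tmul l m =>
      induction m with
      | zero => simp
      | add a b ha hb => rw [tmul_add, map_add]; exact add_mem ha hb
      | tmul c w =>
        rw [LinearMap.lTensor_tmul, mapBaseChange_tmul]
        have hw : w ∈ Submodule.span F (Set.range (D k₀ F)) := by
          rw [span_range_derivation]; trivial
        induction hw using Submodule.span_induction with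
        | mem y hy =>
          obtain ⟨x, rfl⟩ := hy
          rw [map_D, tmul_smul, smul_tmul']
          have : (c • l) ⊗ₜ[K] D k₀ K (algebraMap F K x) = (c • l) • ((1 : L) ⊗ₜ[K] D k₀ K (x : K)) := by
            rw [smul_tmul', smul_eq_mul, mul_one]; rfl
          rw [this]
          exact Submodule.smul_mem _ _ (Submodule.subset_span ⟨x, x.2, rfl⟩)
        | zero => simp
        | add y z _ _ hy hz => rw [map_add, smul_add, tmul_add]; exact add_mem hy hz
        | smul a y _ hy =>
          rw [map_smul, smul_comm, ← IsScalarTower.algebraMap_smul K a, tmul_smul,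
            ← IsScalarTower.algebraMap_smul L (algebraMap F K a)]
          exact Submodule.smul_mem _ _ hy
  · intro hω
    induction hω using Submodule.span_induction with
    | mem y hy =>
      obtain ⟨x, hx, rfl⟩ := hy
      have : D F K x = 0 := (D F K).map_algebraMap (⟨x, hx⟩ : F)
      simp [this]
    | zero => simp
    | add y z _ _ hy hz => rw [map_add, hy, hz, add_zero]
    | smul a y _ hy => rw [map_smul, hy, smul_zero]

end Groth.Agent.Sep12
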